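import Mathlib.RingTheory.Nakayama
import Mathlib.RingTheory.Ideal.KrullsHeightTheorem
import Mathlib.RingTheory.Noetherian.Basic
import Mathlib.Algebra.Module.Torsion.Basic
import Mathlib.RingTheory.Finiteness.Basic

/-!
# A birational algebra which is trivial off the closed point

For a Noetherian local ring `A` and an `A`-algebra `B` that agrees with `A` after inverting any
element of the maximal ideal `m`: if `m B = B` then every `x ∈ m` which is regular on `B` is a unit
in `B`. (This is the algebra behind: the punctured spectrum of a domain of dimension `≥ 2` is not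
affine.)
-/

set_option autoImplicit false
universe u

open IsLocalRing

namespace PunctB6

variable {A B : Type u} [CommRing A] [IsLocalRing A] [IsNoetherianRing A] [CommRing B] [Algebra A B]

theorem isArtinian_of_kill {M : Type u} [AddCommGroup M] [Module A M] [Module.Finite A M] {n : ℕ}
    (h : ∀ a ∈ maximalIdeal A ^ n, ∀ z : M, a • z = 0) : IsArtinian A M := by
  rcases Nat.eq_zero_or_pos n with rfl | hn
  · have : Subsingleton M := by
      refine subsingleton_of_forall_eq 0 fun z => ?_
      simpa using h 1 (by simp) z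
    infer_instance
  have hmin : maximalIdeal A ∈ (maximalIdeal A ^ n).minimalPrimes := by
    refine ⟨⟨(maximalIdeal.isMaximal A).isPrime, Ideal.pow_le_self hn.ne'⟩, fun P hP _ => ?_⟩
    exact (hP.1.pow_le_iff hn.ne').mp hP.2
  have := IsLocalRing.quotient_artinian_of_mem_minimalPrimes_of_isLocalRing _ hmin
  have htor : Module.IsTorsionBySet A M (maximalIdeal A ^ n : Ideal A) := fun z a => h a.1 a.2 z
  letI := htor.module
  haveI : IsScalarTower A (A ⧸ maximalIdeal A ^ n) M := htor.isScalarTower
  haveI : Module.Finite (A ⧸ maximalIdeal A ^ n) M := Module.Finite.of_restrictScalars_finite A _ _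
  haveI : IsArtinian (A ⧸ maximalIdeal A ^ n) M := inferInstance
  exact isArtinian_of_surjective_algebraMap (R := A ⧸ maximalIdeal A ^ n) Ideal.Quotient.mk_surjective

theorem exists_pow_le_of_forall {M : Type u} [AddCommGroup M] [Module A M] [Module.Finite A M]
    (h : ∀ a ∈ maximalIdeal A, ∀ z : M, ∃ k : ℕ, a ^ k • z = 0) :
    ∃ n : ℕ, ∀ a ∈ maximalIdeal A ^ n, ∀ z : M, a • z = 0 := by
  have hle : maximalIdeal A ≤ (Module.annihilator A M).radical := by
    intro a ha
    obtain ⟨T, hT⟩ := Module.Finite.fg_top (R := A) (M := M)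
    choose k hk using h a ha
    refine ⟨T.sup k, Module.mem_annihilator.mpr fun z => ?_⟩
    have hz : z ∈ Submodule.span A (T : Set M) := hT ▸ Submodule.mem_top
    induction hz using Submodule.span_induction with
    | mem z hz =>
      rw [← Nat.sub_add_cancel (Finset.le_sup (f := k) (Finset.mem_coe.mp hz)), pow_add, mul_smul,
        hk, smul_zero]
    | zero => exact smul_zero _
    | add z w _ _ hz hw => rw [smul_add, hz, hw, add_zero]
    | smul c z _ hz => rw [smul_comm, hz, smul_zero]
  obtain ⟨n, hn⟩ := Ideal.exists_pow_le_of_le_radical_of_fg hle (IsNoetherian.noetherian _)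
  exact ⟨n, fun a ha z => Module.mem_annihilator.mp (hn ha) z⟩

theorem isUnit_of_forall
    (hloc : ∀ a ∈ maximalIdeal A, ∀ b : B, ∃ k : ℕ, a ^ k • b ∈ LinearMap.range (Algebra.linearMap A B))
    (hmB : (maximalIdeal A).map (algebraMap A B) = ⊤)
    {x : A} (hx : x ∈ maximalIdeal A) (hxB : IsSMulRegular B x) :
    IsUnit (algebraMap A B x) := by
  set R := LinearMap.range (Algebra.linearMap A B)
  let K : ℕ → Submodule A B := fun j => R.comap (LinearMap.lsmul A B (x ^ j))
  have hK : ∀ j b, b ∈ K j ↔ x ^ j • b ∈ R := fun j b => Iff.rfl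
  have hRK : ∀ j, R ≤ K j := fun j b hb => R.smul_mem _ hb
  have hfg : ∀ j, (K j).FG := by
    intro j
    haveI : Module.Finite A R := Module.Finite.iff_fg.mpr
      (by rw [show R = Submodule.map (Algebra.linearMap A B) ⊤ from (Submodule.map_top _).symm]
          exact Module.Finite.fg_top.map _)
    let g : K j →ₗ[A] R :=
      ((LinearMap.lsmul A B (x ^ j)).comp (K j).subtype).codRestrict R fun b => b.2
    have hg : Function.Injective g := fun b c hbc =>
      Subtype.ext ((hxB.pow j) (congrArg Subtype.val hbc))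
    exact Module.Finite.iff_fg.mp (Module.Finite.of_injective g hg)
  -- the quotient `K 1 / R` has finite length
  let Q : Submodule A (B ⧸ R) := (K 1).map R.mkQ
  haveI : Module.Finite A Q := Module.Finite.iff_fg.mpr ((hfg 1).map _)
  obtain ⟨n, hn⟩ := exists_pow_le_of_forall (A := A) (M := Q) fun a ha z => by
    obtain ⟨b, hb, hbz⟩ := z.2
    obtain ⟨k, hk⟩ := hloc a ha b
    refine ⟨k, Subtype.ext ?_⟩
    rw [Submodule.coe_smul, ← hbz, ← map_smul, Submodule.coe_zero, Submodule.mkQ_apply,
      Submodule.Quotient.mk_eq_zero]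
    exact hk
  haveI := isArtinian_of_kill hn
  -- descending chain `x ^ j • K (j + 1)` in `K 1`
  let I : ℕ →o (Submodule A Q)ᵒᵈ :=
    { toFun := fun j => OrderDual.toDual
        (((K (j + 1)).map ((LinearMap.lsmul A B (x ^ j)))).map R.mkQ |>.comap Q.subtype)
      monotone' := by
        refine monotone_nat_of_le_succ fun j => ?_
        refine Submodule.comap_mono (Submodule.map_mono ?_)
        rintro _ ⟨b, hb, rfl⟩
        refine ⟨x • b, (hK _ _).mpr ?_, ?_⟩
        · rw [smul_smul, ← pow_succ]; exact hb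
        · show x ^ j • x • b = x ^ (j + 1) • b
          rw [smul_smul, ← pow_succ] }
  obtain ⟨j0, hj0⟩ := IsArtinian.monotone_stabilizes I
  have step : ∀ j, j0 ≤ j → ∀ b ∈ K (j + 1), ∃ w ∈ K (j + 2), b - x • w ∈ K j := by
    intro j hj b hb
    have hmem : R.mkQ (x ^ j • b) ∈ Q := by
      refine ⟨x ^ j • b, (hK _ _).mpr ?_, rfl⟩
      rw [pow_one, smul_smul, ← pow_succ']; exact hb
    have h1 : (⟨_, hmem⟩ : Q) ∈ OrderDual.ofDual (I j) := ⟨x ^ j • b, ⟨b, hb, rfl⟩, rfl⟩
    rw [← hj0 j hj, hj0 (j + 1) (hj.trans (Nat.le_succ _))] at h1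
    obtain ⟨_, ⟨w, hw, rfl⟩, hwe⟩ := h1
    refine ⟨w, hw, (hK _ _).mpr ?_⟩
    have hwe' : R.mkQ (x ^ (j + 1) • w) = R.mkQ (x ^ j • b) := hwe
    rw [Submodule.mkQ_apply, Submodule.mkQ_apply, Submodule.Quotient.eq] at hwe'
    rw [smul_sub, smul_smul, ← pow_succ, ← neg_sub]
    exact R.neg_mem hwe'
  let S : Submodule A B := (LinearMap.range (LinearMap.lsmul A B x)) ⊔ K j0
  have hS : ∀ b, b ∈ S := by
    have : ∀ d, ∀ b ∈ K (j0 + d), b ∈ S := by
      intro d
      induction d with
      | zero => exact fun b hb => Submodule.mem_sup_right hb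
      | succ d ih =>
        intro b hb
        obtain ⟨w, -, hw⟩ := step (j0 + d) (Nat.le_add_right _ _) b hb
        rw [← add_sub_cancel (x • w) b]
        exact add_mem (Submodule.mem_sup_left ⟨w, rfl⟩) (ih _ hw)
    intro b
    obtain ⟨k, hk⟩ := hloc x hx b
    refine this k b ((hK _ _).mpr ?_)
    rw [pow_add, mul_smul]
    exact R.smul_mem _ hk
  -- hence `B / x B` is finite over `A` and equal to its `m`-multiple
  let C := B ⧸ LinearMap.range (LinearMap.lsmul A B x)
  haveI : Module.Finite A C := by
    haveI : Module.Finite A (K j0) := Module.Finite.iff_fg.mpr (hfg j0)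
    refine Module.Finite.of_surjective
      ((LinearMap.range (LinearMap.lsmul A B x)).mkQ.comp (K j0).subtype) fun c => ?_
    obtain ⟨b, rfl⟩ := Submodule.Quotient.mk_surjective _ c
    obtain ⟨y, hy, z, hz, rfl⟩ := Submodule.mem_sup.mp (hS b)
    refine ⟨⟨z, hz⟩, ((Submodule.Quotient.eq _).mpr ?_)⟩
    simpa using hy
  have htop : (⊤ : Submodule A C) ≤ maximalIdeal A • ⊤ := by
    rintro c -
    obtain ⟨b, rfl⟩ := Submodule.Quotient.mk_surjective _ c
    have : b ∈ maximalIdeal A • (⊤ : Submodule A B) := by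
      rw [Ideal.smul_top_eq_map, hmB]; trivial
    have := Submodule.mem_map_of_mem (f := (LinearMap.range (LinearMap.lsmul A B x)).mkQ) this
    rw [Submodule.map_smul''] at this
    exact (Submodule.smul_mono le_rfl le_top) this
  have hbot := Submodule.eq_bot_of_le_smul_of_le_jacobson_bot _ _ Module.Finite.fg_top htop
    (IsLocalRing.maximalIdeal_le_jacobson _)
  have h1 : Submodule.Quotient.mk (1 : B) ∈ (⊤ : Submodule A C) := trivial
  rw [hbot, Submodule.mem_bot, Submodule.Quotient.mk_eq_zero] at h1
  obtain ⟨y, hy⟩ := h1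
  exact IsUnit.of_mul_eq_one y (by rw [← Algebra.smul_def]; exact hy)

end PunctB6
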