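import Mathlib.AlgebraicGeometry.Morphisms.Affine
import Mathlib.AlgebraicGeometry.Morphisms.ClosedImmersion
import Mathlib.AlgebraicGeometry.Noetherian
import Mathlib.AlgebraicGeometry.Stalk
import Mathlib.RingTheory.KrullDimension.Basic
import Groth.Agent.Lib.PunctB6.Alg

/-!
# The punctured spectrum of a local ring of dimension `≥ 2` is not affine
-/

set_option autoImplicit false
universe u

open CategoryTheory CategoryTheory.Limits AlgebraicGeometry TopologicalSpace IsLocalRing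

namespace PunctB6

/-- The sections map `A → Γ(W, O)`. -/
noncomputable def secMap {A : CommRingCat.{u}} (W : (Spec A).Opens) : A →+* Γ(Spec A, W) :=
  ((Scheme.ΓSpecIso A).inv ≫ (Spec A).presheaf.map (homOfLE (le_top : W ≤ ⊤)).op).hom

theorem map_maximalIdeal_ne_top {A : CommRingCat.{u}} [IsDomain A] [IsNoetherianRing A] [IsLocalRing A]
    (p : Spec A) (hp : p ≠ closedPoint A) (hp0 : p.asIdeal ≠ ⊥) (W : (Spec A).Opens)
    (hW : ∀ q : Spec A, q ∈ W ↔ q ≠ closedPoint A) :
    (maximalIdeal A).map (secMap W) ≠ ⊤ := by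
  let D : A → (Spec A).Opens := fun a => PrimeSpectrum.basicOpen a
  have hD : ∀ a ∈ maximalIdeal A, D a ≤ W := fun a ha q hq => (hW q).mpr fun h => hq (h ▸ ha)
  intro hmB
  let R : ∀ U : (Spec A).Opens, A →+* Γ(Spec A, U) := fun U => secMap U
  have hres : ∀ (U V : (Spec A).Opens) (h : V ≤ U) (r : A),
      (Spec A).presheaf.map (homOfLE h).op (R U r) = R V r := by
    intro U V h r
    show (((Scheme.ΓSpecIso A).inv ≫ (Spec A).presheaf.map (homOfLE le_top).op) ≫
      (Spec A).presheaf.map (homOfLE h).op).hom r = _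
    rw [Category.assoc, ← Functor.map_comp]
    rfl
  have hloc : ∀ a : A, IsLocalization.Away a Γ(Spec A, D a) := fun a =>
    inferInstanceAs (IsLocalization.Away a Γ(Spec A, PrimeSpectrum.basicOpen a))
  have hbo : ∀ a ∈ maximalIdeal A, (Spec A).basicOpen (R W a) = D a := by
    intro a ha
    show (Spec A).basicOpen ((Spec A).presheaf.map (homOfLE le_top).op ((Scheme.ΓSpecIso A).inv a)) = _
    rw [Scheme.basicOpen_res, basicOpen_eq_of_affine']
    rw [Iso.inv_hom_id_apply]
    exact inf_eq_right.mpr (hD a ha)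
  letI : Algebra A Γ(Spec A, W) := (R W).toAlgebra
  obtain ⟨a₀, ha₀, ha₀'⟩ : ∃ a ∈ p.asIdeal, a ≠ 0 :=
    Submodule.exists_mem_ne_zero_of_ne_bot hp0
  have hne : Nonempty W := ⟨⟨p, (hW p).mpr hp⟩⟩
  haveI : IsDomain Γ(Spec A, W) := inferInstance
  have hinj : Function.Injective (R W) := by
    intro a b hab
    have := map_injective_of_isIntegral (X := Spec A) (homOfLE (le_top : W ≤ ⊤)) hab
    exact (ConcreteCategory.bijective_of_isIso (Scheme.ΓSpecIso A).inv).1 this
  have hloc' : ∀ a ∈ maximalIdeal A, ∀ b : Γ(Spec A, W),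
      ∃ k : ℕ, a ^ k • b ∈ LinearMap.range (Algebra.linearMap A Γ(Spec A, W)) := by
    intro a ha b
    rcases eq_or_ne a 0 with rfl | ha0
    · exact ⟨1, 0, by rw [pow_one, zero_smul, map_zero]⟩
    haveI := hloc a
    obtain ⟨⟨c, _, k, rfl⟩, hc⟩ := IsLocalization.surj (Submonoid.powers a)
      ((Spec A).presheaf.map (homOfLE (hD a ha)).op b : Γ(Spec A, D a))
    replace hc : (Spec A).presheaf.map (homOfLE (hD a ha)).op b * R _ (a ^ k) = R _ c := hc
    refine ⟨k, c, ?_⟩
    have : Nonempty (D a) := by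
      refine ⟨⟨⟨⊥, Ideal.isPrime_bot⟩, ?_⟩⟩
      show a ∉ (⊥ : Ideal A)
      simpa using ha0
    apply map_injective_of_isIntegral (X := Spec A) (homOfLE (hD a ha))
    show (Spec A).presheaf.map (homOfLE (hD a ha)).op (R W c) =
      (Spec A).presheaf.map (homOfLE (hD a ha)).op (R W (a ^ k) * b)
    rw [hres, map_mul, hres, ← hc, mul_comm]
  have hpm : a₀ ∈ maximalIdeal A := le_maximalIdeal p.isPrime.ne_top ha₀
  have hu := isUnit_of_forall hloc' hmB hpm
    (IsSMulRegular.of_right_eq_zero_of_smul fun b hb => by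
      rw [Algebra.smul_def, mul_eq_zero] at hb
      exact hb.resolve_left fun h => ha₀' (hinj (h.trans (map_zero _).symm)))
  have hbu : W ≤ (Spec A).basicOpen (R W a₀) :=
    (Scheme.basicOpen_of_isUnit _ hu).ge
  rw [hbo a₀ hpm] at hbu
  exact hbu ((hW p).mpr hp) ha₀

theorem not_isAffineOpen {A : CommRingCat.{u}} [IsDomain A] [IsNoetherianRing A] [IsLocalRing A]
    (p : Spec A) (hp : p ≠ closedPoint A) (hp0 : p.asIdeal ≠ ⊥) (W : (Spec A).Opens)
    (hW : ∀ q : Spec A, q ∈ W ↔ q ≠ closedPoint A) : ¬ IsAffineOpen W := by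
  intro hWa
  apply map_maximalIdeal_ne_top p hp hp0 W hW
  by_contra h
  obtain ⟨M, hM, hle⟩ := Ideal.exists_le_maximal _ h
  let z : Spec Γ(Spec A, W) := ⟨M, hM.isPrime⟩
  have hq : hWa.fromSpec z ∈ W := hWa.range_fromSpec.le ⟨z, rfl⟩
  refine (hW _).mp hq (PrimeSpectrum.ext (le_antisymm
    (le_maximalIdeal (hWa.fromSpec z).isPrime.ne_top) fun a ha => ?_))
  by_contra hna
  have hz : z ∈ hWa.fromSpec ⁻¹ᵁ (Spec A).basicOpen (secMap W a) := by
    show hWa.fromSpec z ∈ (Spec A).basicOpen (secMap W a)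
    show hWa.fromSpec z ∈ (Spec A).basicOpen
      ((Spec A).presheaf.map (homOfLE le_top).op ((Scheme.ΓSpecIso A).inv a))
    rw [Scheme.basicOpen_res, basicOpen_eq_of_affine', Iso.inv_hom_id_apply]
    exact ⟨hq, hna⟩
  rw [hWa.fromSpec_preimage_basicOpen] at hz
  exact hz (hle (Ideal.mem_map_of_mem _ ha))

theorem ringKrullDim_stalk_le_one {X : Scheme.{u}} [IsLocallyNoetherian X] (U : X.Opens)
    [IsAffineHom U.ι] (ξ : X) (hξ : ξ ∉ U) (hmax : ∀ η : X, η ∉ U → η ⤳ ξ → η = ξ) :
    ringKrullDim (X.presheaf.stalk ξ) ≤ 1 := by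
  by_contra h
  let O := X.presheaf.stalk ξ
  have h2 : ((2 : ℕ) : WithBot ℕ∞) ≤ ringKrullDim O := by
    generalize hd : ringKrullDim O = d at *
    have h' : (1 : WithBot ℕ∞) < d := lt_of_not_ge h
    match d, h' with
    | (d : ℕ∞), h' =>
      have h'' : (1 : ℕ∞) < d := by exact_mod_cast h'
      have h3 : ((2 : ℕ) : ℕ∞) ≤ d := by
        have := Order.add_one_le_of_lt h''
        exact_mod_cast (show (1 : ℕ∞) + 1 = 2 by norm_num) ▸ this
      exact WithBot.coe_le_coe.mpr h3
  obtain ⟨l, hl⟩ : ∃ l : LTSeries (PrimeSpectrum O), l.length = 2 :=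
    Order.le_krullDim_iff.mp h2
  let P0 := (l ⟨0, by omega⟩).asIdeal
  let A : CommRingCat.{u} := CommRingCat.of (O ⧸ P0)
  haveI : IsDomain A := Ideal.Quotient.isDomain P0
  haveI : IsNoetherianRing A := inferInstanceAs (IsNoetherianRing (O ⧸ P0))
  haveI : IsLocalRing A :=
    IsLocalRing.of_surjective' (Ideal.Quotient.mk P0) Ideal.Quotient.mk_surjective
  let π : O ⟶ A := CommRingCat.ofHom (Ideal.Quotient.mk P0)
  haveI : IsClosedImmersion (Spec.map π) :=
    IsClosedImmersion.spec_of_surjective π Ideal.Quotient.mk_surjective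
  let φ : Spec A ⟶ X := Spec.map π ≫ X.fromSpecStalk ξ
  have hπc : Spec.map π (closedPoint A) = closedPoint O := by
    apply PrimeSpectrum.ext
    show Ideal.comap π.hom (maximalIdeal A) = maximalIdeal O
    exact IsLocalRing.eq_maximalIdeal
      (Ideal.comap_isMaximal_of_surjective π.hom Ideal.Quotient.mk_surjective)
  have hφc : φ (closedPoint A) = ξ := by
    simp only [φ]
    rw [Scheme.Hom.comp_apply, hπc, Scheme.fromSpecStalk_closedPoint]
  have hW : ∀ q : Spec A, q ∈ φ ⁻¹ᵁ U ↔ q ≠ closedPoint A := by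
    intro q
    constructor
    · rintro hq rfl
      exact hξ (hφc ▸ hq)
    · intro hq
      by_contra hqU
      have hsp : φ q ⤳ ξ := by
        have : φ q ∈ Set.range (X.fromSpecStalk ξ) := ⟨Spec.map π q, rfl⟩
        rwa [Scheme.range_fromSpecStalk] at this
      have h1 := hmax _ hqU hsp
      rw [← hφc] at h1
      exact hq ((Spec.map π).isEmbedding.injective ((X.fromSpecStalk ξ).isEmbedding.injective h1))
  have hWa : IsAffineOpen (φ ⁻¹ᵁ U) := by
    haveI : IsAffineHom (φ ⁻¹ᵁ U).ι :=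
      MorphismProperty.of_isPullback (P := @IsAffineHom) (isPullback_morphismRestrict φ U)
        inferInstance
    exact isAffine_of_isAffineHom (φ ⁻¹ᵁ U).ι
  have h01 : l ⟨0, by omega⟩ < l ⟨1, by omega⟩ := l.strictMono (by simp [Fin.lt_def])
  have h12 : l ⟨1, by omega⟩ < l ⟨2, by omega⟩ := l.strictMono (by simp [Fin.lt_def])
  have hle01 : P0 ≤ (l ⟨1, by omega⟩).asIdeal := h01.le
  have hker : RingHom.ker π.hom ≤ (l ⟨1, by omega⟩).asIdeal := by
    rw [show π.hom = Ideal.Quotient.mk P0 from rfl, Ideal.mk_ker]; exact hle01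
  let p : Spec A := ⟨_, Ideal.map_isPrime_of_surjective
    (f := π.hom) Ideal.Quotient.mk_surjective hker⟩
  have hpc : Ideal.comap π.hom p.asIdeal = (l ⟨1, by omega⟩).asIdeal := by
    show Ideal.comap π.hom (Ideal.map π.hom _) = _
    rw [Ideal.comap_map_of_surjective π.hom Ideal.Quotient.mk_surjective, sup_eq_left]
    exact hker
  refine not_isAffineOpen p ?_ ?_ _ hW hWa
  · intro hpe
    have h1 : (l ⟨1, by omega⟩).asIdeal = maximalIdeal O := by
      rw [← hpc, hpe]
      exact congrArg PrimeSpectrum.asIdeal hπc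
    exact h12.not_ge (show (l ⟨2, by omega⟩).asIdeal ≤ (l ⟨1, by omega⟩).asIdeal from
      h1 ▸ le_maximalIdeal (l ⟨2, by omega⟩).isPrime.ne_top)
  · intro hb
    have : (l ⟨1, by omega⟩).asIdeal = P0 := by
      rw [← hpc, hb]
      exact Ideal.mk_ker
    exact h01.ne (PrimeSpectrum.ext this.symm)

end PunctB6
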